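import Cfsg.Agent.H292.K6.OrthCore
import Cfsg.Agent.H35.K6.Three

/-!
# S4876, orthogonal groups, `p ∣ q² - 1` (helper35)

`krow_one` : `p` odd, dimension at least 7.
-/

set_option autoImplicit false

open QuadraticMap Module Cfsg Subgroup Cfsg.Agent.H61.K6 Cfsg.Agent.H418.KB Cfsg.Agent.H292.K6
open Cfsg.Agent.LieClassical.OrthCore Cfsg.Agent.LieClassical.OrthTrans Cfsg.Agent.LieClassical.OrthFinite

namespace Cfsg.Agent.H35.K6

universe u v

theorem krow_one {F : Type*} {V : Type v} [Field F] [AddCommGroup V] [Module F V] {Q : QuadraticForm F V} [Fintype F]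
    [Finite (↥(E Q) ⧸ center ↥(E Q))] {p : ℕ} [hp : Fact p.Prime] (hQ : Nondeg Q) (h7 : 7 ≤ finrank F V) (hp2 : p ≠ 2)
    (hd : p ∣ Fintype.card F ^ 2 - 1) (hinv : FixInv Q p) : KRow.{u, v} p (↥(E Q) ⧸ center ↥(E Q)) := by
  have hG : Good Q := good_of_finite hQ (by omega)
  have hfd : FiniteDimensional F V := Module.finite_of_finrank_pos (by omega)
  obtain ⟨a, b, c, y, d, ha, hb, hc, hy, hd', ap, bp, cp, yp, a1, b1, c1, y1, ya, yb, da, db, dy, hba, hcb⟩ :=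
    exists_three hQ h7 hp2 hd
  have ho : ∀ {g : V ≃ₗ[F] V}, g ^ p = 1 → ∃ k, orderOf g = p ^ k := fun h => by
    obtain ⟨k, -, hk⟩ := (Nat.dvd_prime_pow hp.out).1 (show orderOf _ ∣ p ^ 1 by rw [pow_one]; exact orderOf_dvd_of_pow_eq_one h)
    exact ⟨k, hk⟩
  have hj : ((p - 1 : ℕ) : ZMod p) ≠ 1 := by
    intro h
    have h1 : ((p - 1 + 1 : ℕ) : ZMod p) = 0 := by
      rw [Nat.sub_add_cancel hp.out.one_lt.le]
      exact ZMod.natCast_self p
    rw [Nat.cast_add, h, Nat.cast_one, one_add_one_eq_two] at h1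
    have h2 : ((2 : ℕ) : ZMod p) = 0 := by exact_mod_cast h1
    rw [ZMod.natCast_eq_zero_iff] at h2
    exact hp2 ((Nat.prime_dvd_prime_iff_eq hp.out Nat.prime_two).1 h2)
  have hyj : d * y * d⁻¹ = y ^ (p - 1) := by
    rw [dy, inv_eq_iff_mul_eq_one, ← pow_succ', Nat.sub_add_cancel hp.out.one_lt.le, yp]
  have l1 := Submodule.finrank_lt_finrank_of_lt hba
  have l2 := Submodule.finrank_lt_finrank_of_lt hcb
  exact krow_of_three hG hp2 hinv ha hb hc (ho ap) (ho bp) (ho cp) a1 b1 c1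
    ⟨y, hy, d, hd', ya, da, y1, yp, p - 1, hj, hyj⟩ ⟨y, hy, d, hd', yb, db, y1, yp, p - 1, hj, hyj⟩
    (fun _ => by omega) (fun _ => by omega) (fun _ => by omega)

end Cfsg.Agent.H35.K6
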