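import Cfsg.Agent.LieClassical.OrthFinite
import Cfsg.Agent.S0276

/-!
# S4876, orthogonal groups, `p ∣ q² - 1` (helper35): rotations of order `p` in planes

`TP Q τ α a b` : `Q a = Q b = α ≠ 0`, `polar a b = τ α`.  The rotation `r_a r_b` satisfies `g² = (τ² - 2) g - 1` on `⟨a, b⟩`; if `τ` is the
trace of an element of order `p` of `SL₂(F)`, it has order `p`.
-/

set_option autoImplicit false

open QuadraticMap Module Matrix Cfsg.Agent.LieClassical.OrthCore Cfsg.Agent.LieClassical.OrthTrans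
  Cfsg.Agent.LieClassical.OrthFinite

namespace Cfsg.Agent.H35.K6

/-! ### the recurrence -/

section rec

variable {F V : Type*} [Field F] [AddCommGroup V] [Module F V]

/-- powers of an element with `z² = t z - 1` -/
theorem exists_rec (t : F) (k : ℕ) : ∃ u v : F,
    (∀ z : Matrix (Fin 2) (Fin 2) F, z * z = t • z - 1 → z ^ k = u • z + v • (1 : Matrix (Fin 2) (Fin 2) F)) ∧
    (∀ (g : V ≃ₗ[F] V) (x : V), g (g x) = t • g x - x → (g ^ k) x = u • g x + v • x) := by
  induction k with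
  | zero =>
    refine ⟨0, 1, fun z _ => by simp, fun g x _ => ?_⟩
    rw [pow_zero, zero_smul, one_smul, zero_add]
    rfl
  | succ k ih =>
    obtain ⟨u, v, h1, h2⟩ := ih
    refine ⟨t * u + v, -u, fun z hz => ?_, fun g x hx => ?_⟩
    · rw [pow_succ', h1 z hz, mul_add, mul_smul_comm, hz, mul_smul_comm, mul_one]
      module
    · rw [pow_succ']
      show g ((g ^ k) x) = _
      rw [h2 g x hx, map_add, map_smul, map_smul, hx]
      module

end rec

/-! ### elements of order `p` of `SL₂` -/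

section sl

variable {F : Type*} [Field F]

theorem sl_sq (z : SpecialLinearGroup (Fin 2) F) :
    (z : Matrix (Fin 2) (Fin 2) F) * (z : Matrix (Fin 2) (Fin 2) F) =
      (z 0 0 + z 1 1) • (z : Matrix (Fin 2) (Fin 2) F) - 1 := by
  have hd := z.det_coe
  rw [det_fin_two] at hd
  ext i j
  fin_cases i <;> fin_cases j
  · simp [mul_apply, Fin.sum_univ_two]
    linear_combination (-1 : F) * hd
  · simp [mul_apply, Fin.sum_univ_two]
    ring
  · simp [mul_apply, Fin.sum_univ_two]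
    ring
  · simp [mul_apply, Fin.sum_univ_two]
    linear_combination (-1 : F) * hd

/-- **the trace**: `τ` with `τ ≠ 0`, `τ² ≠ 4`, such that `g² = (τ² - 2) g - 1` implies `g^p = 1` -/
theorem exists_tr [Fintype F] {p : ℕ} [hp : Fact p.Prime] (hp2 : p ≠ 2) (hd : p ∣ Fintype.card F ^ 2 - 1) :
    ∃ τ : F, τ ≠ 0 ∧ τ ^ 2 - 4 ≠ 0 ∧ ∀ {V : Type*} [AddCommGroup V] [Module F V] (g : V ≃ₗ[F] V) (x : V),
      g (g x) = (τ ^ 2 - 2) • g x - x → (g ^ p) x = x := by
  classical
  have h1 : p ∣ Nat.card (SpecialLinearGroup (Fin 2) F) := by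
    rw [S0276.card_sl_two rfl]
    exact Dvd.dvd.mul_left hd _
  obtain ⟨z, hz⟩ := exists_prime_orderOf_dvd_card' p h1
  have hzp : z ^ p = 1 := by rw [← hz, pow_orderOf_eq_one]
  have hz1 : z ≠ 1 := by
    rintro rfl
    rw [orderOf_one] at hz
    exact hp.out.one_lt.ne hz
  have key : ∀ m : ℕ, Nat.Coprime p m → (z : Matrix (Fin 2) (Fin 2) F) ^ m = 1 → False := by
    intro m hm h
    have h2 : z ^ m = 1 := Subtype.ext (by simpa using h)
    have h3 : orderOf z ∣ m := orderOf_dvd_of_pow_eq_one h2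
    rw [hz] at h3
    have h4 := Nat.eq_one_of_dvd_coprimes hm dvd_rfl h3
    exact hp.out.one_lt.ne' h4
  have hodd : Nat.Coprime p 2 := (Nat.coprime_primes hp.out Nat.prime_two).2 hp2
  have hsq := sl_sq z
  set Z := (z : Matrix (Fin 2) (Fin 2) F) with hZ
  set τ : F := z 0 0 + z 1 1 with hτ
  have hZp : Z ^ p = 1 := by
    have := congrArg (fun w : SpecialLinearGroup (Fin 2) F => (w : Matrix (Fin 2) (Fin 2) F)) hzp
    simpa using this
  -- `z` is not scalar
  have hns : ∀ c : F, Z ≠ c • (1 : Matrix (Fin 2) (Fin 2) F) := by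
    intro c hc
    have hdet := z.det_coe
    rw [← hZ, hc, det_smul, det_one, mul_one, Fintype.card_fin] at hdet
    apply key 2 hodd
    rw [hc, smul_pow, one_pow, hdet, one_smul]
  have hτ0 : τ ≠ 0 := by
    intro h0
    rw [h0, zero_smul, zero_sub] at hsq
    apply key (2 * 2) (Nat.Coprime.mul_right hodd hodd)
    rw [pow_mul, pow_two Z, hsq]
    simp
  have hτ4 : τ ^ 2 - 4 ≠ 0 := by
    intro h4
    obtain ⟨ℓ, hℓ⟩ := CharP.exists F
    have hℓp : ℓ.Prime := (CharP.char_is_prime_or_zero F ℓ).resolve_right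
      (by rintro rfl; exact CharP.char_ne_zero_of_finite F 0 rfl)
    have : Fact ℓ.Prime := ⟨hℓp⟩
    have hpl : Nat.Coprime p ℓ := by
      rw [Nat.coprime_primes hp.out hℓp]
      rintro rfl
      obtain ⟨n, -, hn⟩ := FiniteField.card F p
      rw [hn] at hd
      have h5 : p ∣ (p ^ (n : ℕ)) ^ 2 := dvd_pow (dvd_pow_self p n.pos.ne') two_ne_zero
      have h6 : 1 ≤ (p ^ (n : ℕ)) ^ 2 := Nat.one_le_pow _ _ (Nat.pow_pos hp.out.pos)
      have h7 : p ∣ 1 := by
        have := (Nat.dvd_sub h5 hd)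
        rwa [Nat.sub_sub_self h6] at this
      exact hp.out.one_lt.ne' (Nat.dvd_one.1 h7)
    obtain ⟨e, he, he1⟩ : ∃ e : F, e ^ 2 = 1 ∧ τ = 2 * e := by
      by_cases h2 : (2 : F) = 0
      · exfalso
        apply hτ0
        have : τ ^ 2 = 0 := by linear_combination h4 + 2 * h2
        exact pow_eq_zero_iff two_ne_zero |>.1 this
      · refine ⟨τ / 2, ?_, by field_simp⟩
        have h8 : (2 : F) ^ 2 ≠ 0 := pow_ne_zero 2 h2
        rw [div_pow, div_eq_one_iff_eq h8]
        linear_combination h4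
    have : CharP (Matrix (Fin 2) (Fin 2) F) ℓ := inferInstance
    have h9 : (Z - e • (1 : Matrix (Fin 2) (Fin 2) F)) ^ 2 = 0 := by
      rw [pow_two, sub_mul, mul_sub, mul_sub, hsq, he1, smul_mul_smul_comm, mul_one, ← pow_two e, he, mul_smul_comm, smul_mul_assoc,
        mul_one, one_mul]
      module
    have h10 : (Z - e • (1 : Matrix (Fin 2) (Fin 2) F)) ^ ℓ = 0 := by
      obtain ⟨k, hk⟩ := Nat.exists_eq_add_of_le hℓp.two_le
      rw [hk, pow_add, h9, zero_mul]
    have hcomm : Commute Z (e • (1 : Matrix (Fin 2) (Fin 2) F)) := by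
      show Z * _ = _ * Z
      rw [mul_smul_comm, smul_mul_assoc, mul_one, one_mul]
    rw [sub_pow_char_of_commute _ hcomm] at h10
    have h11 : Z ^ ℓ = (e ^ ℓ) • (1 : Matrix (Fin 2) (Fin 2) F) := by
      rw [sub_eq_zero.1 h10, smul_pow, one_pow]
    apply key (ℓ * 2) (Nat.Coprime.mul_right hpl hodd)
    rw [pow_mul, h11, smul_pow, one_pow, ← pow_mul, mul_comm, pow_mul, he, one_pow, one_smul]
  refine ⟨τ, hτ0, hτ4, ?_⟩
  intro V _ _ g x hx
  obtain ⟨u, v, h5, h6⟩ := exists_rec (V := V) (τ ^ 2 - 2) p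
  have hZ2 : (Z * Z) * (Z * Z) = (τ ^ 2 - 2) • (Z * Z) - 1 := by
    have h7 : Z * Z * (Z * Z) = (τ • Z - 1) * (τ • Z - 1) := by rw [hsq]
    rw [h7, sub_mul, mul_sub, mul_one, one_mul, smul_mul_smul_comm, hsq]
    module
  have h7 := h5 (Z * Z) hZ2
  have h8 : (Z * Z) ^ p = 1 := by
    rw [← pow_two, ← pow_mul, mul_comm, pow_mul, hZp, one_pow]
  rw [h8, hsq] at h7
  have hu : u = 0 := by
    by_contra hu
    have h9 : u * τ ≠ 0 := mul_ne_zero hu hτ0
    apply hns ((u * τ)⁻¹ * (1 + u - v))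
    have h10 : (u * τ) • Z = (1 + u - v) • (1 : Matrix (Fin 2) (Fin 2) F) := by
      have h11 : (u * τ) • Z = (u • (τ • Z - 1) + v • (1 : Matrix (Fin 2) (Fin 2) F)) + (u - v) • (1 : Matrix (Fin 2) (Fin 2) F) := by
        module
      rw [h11, ← h7]
      module
    rw [mul_smul, ← h10, smul_smul, inv_mul_cancel₀ h9, one_smul]
  have hv : v = 1 := by
    rw [hu, zero_smul, zero_add] at h7
    have := congrFun (congrFun h7 0) 0
    simpa using this.symm
  rw [h6 g x hx, hu, hv, zero_smul, zero_add, one_smul]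

end sl

end Cfsg.Agent.H35.K6
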