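import Cfsg.Agent.H35.K6.Plane

/-!
# S4876, orthogonal groups, `p ∣ q² - 1` (helper35): the rotations
-/

set_option autoImplicit false

open QuadraticMap Module Cfsg.Agent.LieClassical.OrthCore Cfsg.Agent.LieClassical.OrthTrans
  Cfsg.Agent.LieClassical.OrthFinite

namespace Cfsg.Agent.H35.K6

variable {F V : Type*} [Field F] [AddCommGroup V] [Module F V] {Q : QuadraticForm F V} {τ β : F} {a b : V}

/-- see the header of `Plane.lean` -/
structure TP (Q : QuadraticForm F V) (τ β : F) (a b : V) : Prop where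
  ne : β ≠ 0
  qa : Q a = β
  qb : Q b = β
  ab : polar Q a b = τ * β

theorem TP.symm (h : TP Q τ β a b) : TP Q τ β b a := ⟨h.ne, h.qb, h.qa, by rw [polar_comm, h.ab]⟩

theorem TP.na (h : TP Q τ β a b) : Q a ≠ 0 := by rw [h.qa]; exact h.ne

theorem TP.nb (h : TP Q τ β a b) : Q b ≠ 0 := by rw [h.qb]; exact h.ne

/-- the rotation -/
noncomputable def TP.rot (h : TP Q τ β a b) : V ≃ₗ[F] V := refl Q a h.na * refl Q b h.nb

theorem TP.rot_apply (h : TP Q τ β a b) (x : V) :
    h.rot x = x - (β⁻¹ * polar Q b x) • b - (β⁻¹ * (polar Q a x - τ * polar Q b x)) • a := by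
  have hne := h.ne
  show refl Q a h.na (refl Q b h.nb x) = _
  rw [refl_apply, refl_apply, h.qa, h.qb, polar_sub_right, polar_smul_right, h.ab, smul_eq_mul]
  congr 3
  field_simp

theorem TP.rot_mem_O (h : TP Q τ β a b) : h.rot ∈ O Q := (O Q).mul_mem (refl_mem_O _) (refl_mem_O _)

theorem TP.rot_mem_E (hG : Good Q) (h : TP Q τ β a b) : h.rot ∈ E Q :=
  hG.refl_mul_refl_mem h.nb h.na (by rw [h.qa, h.qb])

theorem TP.rot_symm (h : TP Q τ β a b) : h.symm.rot = h.rot⁻¹ := by
  unfold TP.rot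
  rw [mul_inv_rev, refl_inv, refl_inv]

theorem TP.rot_fix (h : TP Q τ β a b) {x : V} (ha : polar Q a x = 0) (hb : polar Q b x = 0) : h.rot x = x := by
  rw [h.rot_apply, ha, hb]
  simp

theorem TP.rot_a (h : TP Q τ β a b) : h.rot a = (τ ^ 2 - 1) • a - τ • b := by
  have hne := h.ne
  rw [h.rot_apply, polar_self', h.qa, polar_comm Q b a, h.ab]
  match_scalars <;> field_simp <;> ring

theorem TP.rot_b (h : TP Q τ β a b) : h.rot b = τ • a - b := by
  have hne := h.ne
  rw [h.rot_apply, polar_self', h.qb, h.ab]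
  match_scalars <;> (field_simp; ring)

theorem TP.sq_a (h : TP Q τ β a b) : h.rot (h.rot a) = (τ ^ 2 - 2) • h.rot a - a := by
  conv_lhs => rw [h.rot_a, map_sub, map_smul, map_smul, h.rot_a, h.rot_b]
  rw [h.rot_a]
  module

theorem TP.sq_b (h : TP Q τ β a b) : h.rot (h.rot b) = (τ ^ 2 - 2) • h.rot b - b := by
  conv_lhs => rw [h.rot_b, map_sub, map_smul, h.rot_a, h.rot_b]
  rw [h.rot_b]
  module

theorem TP.decomp (h : TP Q τ β a b) (h4 : τ ^ 2 - 4 ≠ 0) (x : V) : ∃ s t : F, ∃ y, polar Q a y = 0 ∧ polar Q b y = 0 ∧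
    x = s • a + t • b + y := by
  have hne := h.ne
  have h4' : 4 - τ ^ 2 ≠ 0 := fun h5 => h4 (by linear_combination -h5)
  refine ⟨(2 * polar Q a x - τ * polar Q b x) / (β * (4 - τ ^ 2)), (2 * polar Q b x - τ * polar Q a x) / (β * (4 - τ ^ 2)),
    x - ((2 * polar Q a x - τ * polar Q b x) / (β * (4 - τ ^ 2))) • a
      - ((2 * polar Q b x - τ * polar Q a x) / (β * (4 - τ ^ 2))) • b, ?_, ?_, by abel⟩
  · simp only [polar_sub_right, polar_smul_right, polar_self', h.qa, h.ab, smul_eq_mul]
    field_simp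
    ring
  · simp only [polar_sub_right, polar_smul_right, polar_self', h.qb, polar_comm Q b a, h.ab, smul_eq_mul]
    field_simp
    ring

theorem TP.pow_eq_one (h : TP Q τ β a b) (h4 : τ ^ 2 - 4 ≠ 0) {p : ℕ}
    (hp : ∀ (g : V ≃ₗ[F] V) (x : V), g (g x) = (τ ^ 2 - 2) • g x - x → (g ^ p) x = x) : h.rot ^ p = 1 := by
  ext x
  obtain ⟨s, t, y, hy1, hy2, rfl⟩ := h.decomp h4 x
  have hy : ∀ k : ℕ, (h.rot ^ k) y = y := by
    intro k
    induction k with
    | zero => rfl
    | succ k ih => rw [pow_succ, LinearEquiv.mul_apply, h.rot_fix hy1 hy2, ih]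
  rw [map_add, map_add, map_smul, map_smul, hp _ a h.sq_a, hp _ b h.sq_b, hy]
  rfl

/-- a product of the rotation and an isometry trivial on the plane: fixed vectors -/
theorem TP.fix_of (h : TP Q τ β a b) (h0 : τ ≠ 0) (h4 : τ ^ 2 - 4 ≠ 0) {g : V ≃ₗ[F] V} (hg : g ∈ O Q) (hga : g a = a)
    (hgb : g b = b) {v : V} (hv : h.rot (g v) = v) : polar Q a v = 0 ∧ polar Q b v = 0 := by
  have hne := h.ne
  have e1 : polar Q a (g v) = polar Q a v := by
    have := polar_map hg a v
    rwa [hga] at this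
  have e2 : polar Q b (g v) = polar Q b v := by
    have := polar_map hg b v
    rwa [hgb] at this
  rw [h.rot_apply, e1, e2] at hv
  have e3 : polar Q a v = τ * polar Q b v - polar Q a v := by
    conv_lhs => rw [← hv]
    simp only [polar_sub_right, polar_smul_right, polar_self', h.qa, h.ab, smul_eq_mul, e1]
    field_simp
    ring
  have e4 : polar Q b v = τ ^ 2 * polar Q b v - polar Q b v - τ * polar Q a v := by
    conv_lhs => rw [← hv]
    simp only [polar_sub_right, polar_smul_right, polar_self', h.qb, polar_comm Q b a, h.ab, smul_eq_mul, e2]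
    field_simp
    ring
  have e5 : polar Q b v = 0 := by
    have : (τ ^ 2 - 4) * polar Q b v = 0 := by linear_combination τ * e3 - 2 * e4
    exact (mul_eq_zero.1 this).resolve_left h4
  refine ⟨?_, e5⟩
  rw [e5] at e4
  have : τ * polar Q a v = 0 := by linear_combination e4
  exact (mul_eq_zero.1 this).resolve_left h0

/-- planes are universal -/
theorem TP.exists_norm [Fintype F] (h : TP Q τ β a b) (h4 : τ ^ 2 - 4 ≠ 0) (c : F) : ∃ s t : F, Q (s • a + t • b) = c := by
  have hne := h.ne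
  have key : ∀ s t : F, Q (s • a + t • b) = β * (s ^ 2 + τ * s * t + t ^ 2) := by
    intro s t
    rw [Q_add, QuadraticMap.map_smul, QuadraticMap.map_smul, polar_smul_left, polar_smul_right, h.qa, h.qb, h.ab]
    simp only [smul_eq_mul]
    ring
  by_cases h2 : ringChar F = 2
  · obtain ⟨s, hs⟩ := FiniteField.isSquare_of_char_two h2 (c / β)
    refine ⟨s, 0, ?_⟩
    rw [key]
    have : s ^ 2 = c / β := by rw [hs, pow_two]
    rw [show s ^ 2 + τ * s * 0 + 0 ^ 2 = s ^ 2 by ring, this]
    field_simp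
  · have h2' : (2 : F) ≠ 0 := Ring.two_ne_zero h2
    have hd : 1 - τ ^ 2 / 4 ≠ 0 := by
      intro h5
      apply h4
      have h44 : (4 : F) ≠ 0 := by
        have : (4 : F) = 2 * 2 := by norm_num
        rw [this]
        exact mul_ne_zero h2' h2'
      field_simp at h5
      linear_combination -h5
    obtain ⟨x, y, hxy⟩ := FiniteField.exists_root_sum_quadratic (R := F) (f := Polynomial.X ^ 2)
      (g := Polynomial.C (1 - τ ^ 2 / 4) * Polynomial.X ^ 2 - Polynomial.C (c / β)) (by rw [Polynomial.degree_X_pow]; rfl)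
      (by compute_degree!) (FiniteField.odd_card_of_char_ne_two h2)
    simp only [Polynomial.eval_pow, Polynomial.eval_X, Polynomial.eval_sub, Polynomial.eval_mul, Polynomial.eval_C] at hxy
    refine ⟨x - τ * y / 2, y, ?_⟩
    rw [key]
    have h44 : (4 : F) = 2 * 2 := by norm_num
    rw [h44] at hxy
    field_simp at hxy ⊢
    linear_combination hxy

/-- reflections of the plane invert the rotation -/
theorem TP.refl_rot (h : TP Q τ β a b) {s t : F} (hv : Q (s • a + t • b) ≠ 0) :
    refl Q (s • a + t • b) hv * h.rot * refl Q (s • a + t • b) hv = h.rot⁻¹ := by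
  have hne := h.ne
  have key : Q (s • a + t • b) = β * (s ^ 2 + τ * s * t + t ^ 2) := by
    rw [Q_add, QuadraticMap.map_smul, QuadraticMap.map_smul, polar_smul_left, polar_smul_right, h.qa, h.qb, h.ab]
    simp only [smul_eq_mul]
    ring
  have hr : s ^ 2 + τ * s * t + t ^ 2 ≠ 0 := by
    rw [key] at hv
    exact right_ne_zero_of_mul hv
  rw [← h.rot_symm]
  obtain ⟨r, hr'⟩ : ∃ r, r = s ^ 2 + τ * s * t + t ^ 2 := ⟨_, rfl⟩
  rw [← hr'] at key hr
  obtain ⟨v, hv'⟩ : ∃ v, v = s • a + t • b := ⟨_, rfl⟩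
  have hva : polar Q a v = β * (2 * s + τ * t) := by
    rw [hv', polar_add_right, polar_smul_right, polar_smul_right, polar_self', h.qa, h.ab]
    simp only [smul_eq_mul]
    ring
  have hvb : polar Q b v = β * (τ * s + 2 * t) := by
    rw [hv', polar_add_right, polar_smul_right, polar_smul_right, polar_self', h.qb, polar_comm Q b a, h.ab]
    simp only [smul_eq_mul]
    ring
  have hvx : ∀ x, polar Q v x = s * polar Q a x + t * polar Q b x := by
    intro x
    rw [hv', polar_add_left, polar_smul_left, polar_smul_left]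
    rfl
  have hrf : ∀ x, refl Q (s • a + t • b) hv x = x - ((β * r)⁻¹ * (s * polar Q a x + t * polar Q b x)) • v := by
    intro x
    rw [refl_apply, key, ← hv', hvx]
  ext x
  show refl Q (s • a + t • b) hv (h.rot (refl Q (s • a + t • b) hv x)) = h.symm.rot x
  rw [hrf (h.rot _), hrf x, h.rot_apply, h.symm.rot_apply]
  simp only [polar_sub_right, polar_smul_right, polar_self', hva, hvb, h.qa, h.qb, polar_comm Q b a, h.ab, smul_eq_mul]
  obtain ⟨A, hA⟩ : ∃ A, A = polar Q a x := ⟨_, rfl⟩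
  obtain ⟨B, hB⟩ : ∃ B, B = polar Q b x := ⟨_, rfl⟩
  rw [← hA, ← hB, hv']
  match_scalars
  · ring
  · field_simp
    rw [hr']
    ring
  · field_simp
    rw [hr']
    ring

end Cfsg.Agent.H35.K6
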