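import Cfsg.Agent.H35.K6.RowOne
import Cfsg.Agent.H292.K6.OrthMore
import Cfsg.Agent.H875.KB.Final
import Cfsg.Agent.S0293

/-!
# S4876, orthogonal groups, `p ∤ q² - 1` (helper35): the rows

`oodd_more`, `oplus_more` (`m ≥ 5`) of `tools/plans/S4876_tasks.lean`, from helper292's `krow_more`.
-/

set_option autoImplicit false

open QuadraticMap Module Cfsg Subgroup Cfsg.Agent.H61.K6 Cfsg.Agent.H418.KB Cfsg.Agent.H292.K6 Cfsg.Agent.H436 Cfsg.Agent.OrdDiv
open Cfsg.Agent.LieClassical.OrthCore Cfsg.Agent.LieClassical.OrthTrans Cfsg.Agent.LieClassical.OrthForms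
open Cfsg.Agent.LieClassical.OrthFinite Cfsg.Agent.ClassicalGeometry.OrthSemi Cfsg.Agent.ClassicalGeometry.OrthSemiForms

namespace Cfsg.Agent.H35.K6

universe u v

theorem krow_form_more {F : Type} [Field F] [Fintype F] {ι : Type} [Fintype ι] [DecidableEq ι] {Q : QuadraticForm F (ι → F)}
    {p : ℕ} [hp : Fact p.Prime] (hQ : Nondeg Q) (h7 : 7 ≤ Fintype.card ι) (hp5 : p = 5 ∨ p = 7) (hq : ¬ p ∣ Fintype.card F)
    (hd : ¬ p ∣ Fintype.card F ^ 2 - 1) (hs : Function.Surjective (Psi Q)) {f : (ι → F) → F} (hf : ⇑Q = f) {S : Type v}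
    [Group S] [Finite S] (hNC : ∀ P : Sylow p S, ¬ IsCyclic (P : Subgroup S)) (e : S ≃* POmega F f)
    (h8 : p = 5 → 8 ∣ Fintype.card ι → 5 ^ 3 ∣ Nat.card S) :
    KRow.{u, v} p S := by
  subst hf
  have h7' : 7 ≤ finrank F (ι → F) := by rwa [Module.finrank_fintype_fun_eq_card]
  have hG : Good Q := good_of_finite hQ (by omega)
  have := finite_quot (Q := Q)
  have hp2 : p ≠ 2 := by rcases hp5 with rfl | rfl <;> norm_num
  have e' := e.trans (pomegaEquiv hG)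
  obtain ⟨R, hRO, hR, hnc⟩ := Cfsg.Agent.H875.KB.exists_R (Q := Q) hG hp2 e' hNC
  refine (krow_more hG hp5 hq hd (fixInv_of_surj hG (hp.out.odd_of_ne_two hp2) hs) hRO hR hnc ?_).congr e'.symm
  intro h5 h88
  rw [Module.finrank_fintype_fun_eq_card] at h88
  left
  rw [← Nat.card_congr e'.toEquiv]
  exact h8 h5 h88

variable {S : Type v} [Group S] [Finite S] {p : ℕ} [hp : Fact p.Prime] {m q : ℕ}

/-- **`PΩ_{2m+1}(q)`** -/
theorem oodd_more (hp5 : p = 5 ∨ p = 7) (hNC : ∀ P : Sylow p S, ¬ IsCyclic (P : Subgroup S)) (h : IsNamed (.oodd m q) S)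
    (hq : ¬ p ∣ q) (hd : ¬ p ∣ q ^ 2 - 1) : KRow.{u, v} p S := by
  obtain ⟨F, i1, i2, hF, ⟨e⟩⟩ := h.real
  have hc := h.cond
  have h2 : (2 : F) ≠ 0 := by
    intro h2
    have h3 : ringChar F = 2 := by
      have h4 : ringChar F ∣ 2 := ringChar.dvd (by exact_mod_cast h2)
      have h5 : ringChar F ≠ 1 := CharP.ringChar_ne_one
      exact ((Nat.dvd_prime Nat.prime_two).1 h4).resolve_left h5
    have h6 := FiniteField.even_card_iff_char_two.1 h3
    rw [hF] at h6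
    have h7 := Nat.odd_iff.1 hc.2.1
    omega
  have hcard : Fintype.card (Unit ⊕ (Fin m ⊕ Fin m)) = 2 * m + 1 := by simp; omega
  have hm := hc.1
  refine krow_form_more (Q := oddForm m F) (nondeg_oddForm m F h2) (by omega) hp5 (by rw [hF]; exact hq)
    (by rw [hF]; exact hd) (AutOrth.Final.surjective_odd hm h2) (coe_oddForm m F) hNC e ?_
  intro _ h8
  exfalso
  rw [hcard] at h8
  omega

/-- **`PΩ⁺_{2m}(q)`, `m ≥ 5`** -/
theorem oplus_more (hp5 : p = 5 ∨ p = 7) (hm : 5 ≤ m) (hNC : ∀ P : Sylow p S, ¬ IsCyclic (P : Subgroup S))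
    (h : IsNamed (.oplus m q) S) (hq : ¬ p ∣ q) (hd : ¬ p ∣ q ^ 2 - 1) : KRow.{u, v} p S := by
  obtain ⟨F, i1, i2, hF, ⟨e⟩⟩ := h.real
  have hcard : Fintype.card (Fin m ⊕ Fin m) = 2 * m := by simp; omega
  refine krow_form_more (Q := plusForm m F) (nondeg_plusForm m F) (by omega) hp5 (by rw [hF]; exact hq)
    (by rw [hF]; exact hd) (AutOrth.Final.surjective_plus hm) (coe_plusForm m F) hNC e ?_
  rintro rfl h8
  rw [hcard] at h8
  have hm8 : 8 ≤ m := by omega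
  have hc := S0293.result (F := F) hF m (by omega)
  have hq2 : 2 ≤ q := hF ▸ Fintype.one_lt_card
  -- `5 ∣ q⁴ - 1`
  have h4 : 5 ∣ q ^ 4 - 1 := by
    have h1 : (q ^ 4) % 5 = 1 := by
      rw [Nat.pow_mod]
      have h2 : q % 5 < 5 := Nat.mod_lt _ (by norm_num)
      have h3 : q % 5 ≠ 0 := fun h => hq (Nat.dvd_of_mod_eq_zero h)
      interval_cases hqq : q % 5 <;> simp at h3 ⊢
    have h2 : 1 ≤ q ^ 4 := Nat.one_le_pow _ _ (by omega)
    omega
  have hk : ∀ k, 5 ∣ q ^ (4 * k) - 1 := fun k => h4.trans (by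
    have := Nat.sub_dvd_pow_sub_pow (q ^ 4) 1 k
    rwa [one_pow, ← pow_mul] at this)
  have h125 : 5 ^ 3 ∣ ∏ i ∈ Finset.range (m - 1), (q ^ (2 * (i + 1)) - 1) := by
    have h1 : ({1, 3, 5} : Finset ℕ) ⊆ Finset.range (m - 1) := by
      intro x hx
      simp only [Finset.mem_insert, Finset.mem_singleton] at hx
      rw [Finset.mem_range]
      omega
    refine dvd_trans ?_ (Finset.prod_dvd_prod_of_subset _ _ _ h1)
    rw [Finset.prod_insert (by decide), Finset.prod_insert (by decide), Finset.prod_singleton, pow_succ, pow_two,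
      mul_assoc]
    exact mul_dvd_mul (hk 1) (mul_dvd_mul (hk 2) (hk 3))
  have h6 : 5 ^ 3 ∣ Nat.gcd 4 (q ^ m - 1) * Nat.card (POmega F (quadFormPlus m F)) := by
    rw [hc]
    exact Dvd.dvd.mul_left h125 _
  have h7 : Nat.Coprime (5 ^ 3) (Nat.gcd 4 (q ^ m - 1)) :=
    Nat.Coprime.coprime_dvd_right (Nat.gcd_dvd_left _ _) (by norm_num)
  rw [Nat.card_congr e.toEquiv]
  exact h7.dvd_of_dvd_mul_left h6

end Cfsg.Agent.H35.K6
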