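import Cfsg.Agent.H35.K6.OrthOne
import Cfsg.Agent.H436.Names
import Cfsg.Agent.AutOrth.Final
import Cfsg.Agent.LieClassical.OrthForms

/-!
# S4876, orthogonal groups, `p ∣ q² - 1` (helper35): the rows

`oodd_one`, `oplus_one` (`m ≥ 5`), `ominus_one` of `tools/plans/S4876_tasks.lean`, for every odd prime `p`.
-/

set_option autoImplicit false

open QuadraticMap Module Cfsg Subgroup Cfsg.Agent.H61.K6 Cfsg.Agent.H418.KB Cfsg.Agent.H292.K6 Cfsg.Agent.H436 Cfsg.Agent.OrdDiv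
open Cfsg.Agent.LieClassical.OrthCore Cfsg.Agent.LieClassical.OrthTrans Cfsg.Agent.LieClassical.OrthForms
open Cfsg.Agent.LieClassical.OrthFinite Cfsg.Agent.ClassicalGeometry.OrthSemi Cfsg.Agent.ClassicalGeometry.OrthSemiForms

namespace Cfsg.Agent.H35.K6

universe u v

theorem finite_quot {F : Type} [Field F] [Fintype F] {ι : Type} [Fintype ι] {Q : QuadraticForm F (ι → F)} :
    Finite (↥(E Q) ⧸ center ↥(E Q)) := by
  have h1 : Finite ((ι → F) ≃ₗ[F] (ι → F)) :=
    Finite.of_injective (fun e : (ι → F) ≃ₗ[F] (ι → F) => (e : (ι → F) → (ι → F))) DFunLike.coe_injective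
  infer_instance

theorem krow_form {F : Type} [Field F] [Fintype F] {ι : Type} [Fintype ι] [DecidableEq ι] {Q : QuadraticForm F (ι → F)}
    {p : ℕ} [hp : Fact p.Prime] (hQ : Nondeg Q) (h7 : 7 ≤ Fintype.card ι) (hp2 : p ≠ 2) (hd : p ∣ Fintype.card F ^ 2 - 1)
    (hs : Function.Surjective (Psi Q)) {f : (ι → F) → F} (hf : ⇑Q = f) {S : Type v} [Group S] (e : S ≃* POmega F f) :
    KRow.{u, v} p S := by
  subst hf
  have h7' : 7 ≤ finrank F (ι → F) := by rwa [Module.finrank_fintype_fun_eq_card]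
  have hG : Good Q := good_of_finite hQ (by omega)
  have := finite_quot (Q := Q)
  exact (krow_one hQ h7' hp2 hd (fixInv_of_surj hG (hp.out.odd_of_ne_two hp2) hs)).congr (e.trans (pomegaEquiv hG)).symm

variable {S : Type v} [Group S] {p : ℕ} [hp : Fact p.Prime] {m q : ℕ}

/-- **`PΩ_{2m+1}(q)`** -/
theorem oodd_one (hp2 : p ≠ 2) (h : IsNamed (.oodd m q) S) (hd : p ∣ q ^ 2 - 1) : KRow.{u, v} p S := by
  obtain ⟨F, i1, i2, hF, ⟨e⟩⟩ := h.real
  have hc := h.cond
  have h2 : (2 : F) ≠ 0 := by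
    intro h2
    have h3 : ringChar F = 2 := by
      have h4 : ringChar F ∣ 2 := ringChar.dvd (by exact_mod_cast h2)
      have h5 : ringChar F ≠ 1 := CharP.ringChar_ne_one
      exact ((Nat.dvd_prime Nat.prime_two).1 h4).resolve_left h5
    have h6 := FiniteField.even_card_iff_char_two.1 h3
    rw [hF] at h6
    have h7 := Nat.odd_iff.1 hc.2.1
    omega
  refine krow_form (Q := oddForm m F) (nondeg_oddForm m F h2) ?_ hp2 (by rw [hF]; exact hd)
    (AutOrth.Final.surjective_odd hc.1 h2) (coe_oddForm m F) e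
  have := hc.1
  simp
  omega

/-- **`PΩ⁺_{2m}(q)`, `m ≥ 5`** -/
theorem oplus_one (hp2 : p ≠ 2) (hm : 5 ≤ m) (h : IsNamed (.oplus m q) S) (hd : p ∣ q ^ 2 - 1) : KRow.{u, v} p S := by
  obtain ⟨F, i1, i2, hF, ⟨e⟩⟩ := h.real
  refine krow_form (Q := plusForm m F) (nondeg_plusForm m F) ?_ hp2 (by rw [hF]; exact hd)
    (AutOrth.Final.surjective_plus hm) (coe_plusForm m F) e
  simp
  omega

/-- **`PΩ⁻_{2m}(q)`** -/
theorem ominus_one (hp2 : p ≠ 2) (h : IsNamed (.ominus m q) S) (hd : p ∣ q ^ 2 - 1) : KRow.{u, v} p S := by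
  obtain ⟨F, i1, i2, a, b, hF, hab, ⟨e⟩⟩ := h.real
  have hm := h.cond.1
  refine krow_form (Q := minusForm (m - 1) F a b) (nondeg_minusForm _ F a b hab) ?_ hp2 (by rw [hF]; exact hd)
    (AutOrth.Final.surjective_minus (by omega) hab) (coe_minusForm (m - 1) F a b) e
  simp
  omega

end Cfsg.Agent.H35.K6
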